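import Mathlib
import Groth.Agent.SweepSix.TensorDomain

open TensorProduct

universe u

set_option synthInstance.maxHeartbeats 400000
set_option maxHeartbeats 1000000

namespace DenseFibreLib

variable {k : Type u} [Field k] {A : Type u} [CommRing A] [Algebra k A]
  {ι : Type*} [DecidableEq ι] (b : Module.Basis ι k A)

/-- The coefficient of the basis vector `b i`. -/
noncomputable def coef {M : Type u} [AddCommGroup M] [Module k M] (i : ι) : M ⊗[k] A →ₗ[k] M :=
  Finsupp.lapply i ∘ₗ (TensorProduct.equivFinsuppOfBasisRight b).toLinearMap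

theorem coef_tmul {M : Type u} [AddCommGroup M] [Module k M] (i : ι) (m : M) (a : A) :
    coef b i (m ⊗ₜ[k] a) = b.repr a i • m := by
  simp [coef]

theorem coef_map {M M' : Type u} [AddCommGroup M] [Module k M] [AddCommGroup M'] [Module k M']
    (φ : M →ₗ[k] M') (i : ι) (z : M ⊗[k] A) : coef b i (φ.rTensor A z) = φ (coef b i z) := by
  induction z using TensorProduct.induction_on with
  | zero => simp
  | tmul m a => simp [coef_tmul]
  | add x y hx hy => simp only [map_add, hx, hy]

theorem eq_zero_of_coef {M : Type u} [AddCommGroup M] [Module k M] {z : M ⊗[k] A}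
    (h : ∀ i, coef b i z = 0) : z = 0 :=
  (TensorProduct.equivFinsuppOfBasisRight b).map_eq_zero_iff.1 (Finsupp.ext h)

theorem coef_symm {M : Type u} [AddCommGroup M] [Module k M] (g : ι →₀ M) (i : ι) :
    coef b i ((TensorProduct.equivFinsuppOfBasisRight b).symm g) = g i :=
  DFunLike.congr_fun ((TensorProduct.equivFinsuppOfBasisRight b).apply_symm_apply g) i

theorem finite_coef {M : Type u} [AddCommGroup M] [Module k M] (z : M ⊗[k] A) :
    (Set.range fun i => coef b i z).Finite := by
  classical
  apply Set.Finite.subset ((((TensorProduct.equivFinsuppOfBasisRight b z).support.image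
    (TensorProduct.equivFinsuppOfBasisRight b z)) ∪ {0}).finite_toSet)
  rintro _ ⟨i, rfl⟩
  by_cases h : i ∈ (TensorProduct.equivFinsuppOfBasisRight b z).support
  · exact Finset.mem_coe.2 (Finset.mem_union_left _ (Finset.mem_image_of_mem _ h))
  · exact Finset.mem_coe.2 (Finset.mem_union_right _
      (Finset.mem_singleton.2 (Finsupp.notMem_support_iff.1 h)))

theorem rTensor_inj {M M' : Type u} [AddCommGroup M] [Module k M] [AddCommGroup M'] [Module k M']
    (φ : M →ₗ[k] M') (hφ : Function.Injective φ) : Function.Injective (φ.rTensor A) :=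
  Module.Flat.rTensor_preserves_injective_linearMap φ hφ

section act

variable {L : Type u} [CommRing L] [Algebra k L] (M : Type u) [AddCommGroup M] [Module k M]
  [Module L M] [IsScalarTower k L M]

/-- The action of `L ⊗ A` on `M ⊗ A`. -/
noncomputable def act : L ⊗[k] A →ₗ[k] M ⊗[k] A →ₗ[k] M ⊗[k] A :=
  TensorProduct.homTensorHomMap (RingHom.id k) M A M A ∘ₗ
    TensorProduct.map (Algebra.lsmul k k M).toLinearMap (LinearMap.mul k A)

theorem act_tmul (r : L) (a : A) (m : M) (a' : A) :
    act M (r ⊗ₜ[k] a) (m ⊗ₜ[k] a') = (r • m) ⊗ₜ[k] (a * a') := by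
  simp [act]

variable {M} {M' : Type u} [AddCommGroup M'] [Module k M'] [Module L M'] [IsScalarTower k L M']

theorem act_nat (φ : M →ₗ[L] M') (s : L ⊗[k] A) (z : M ⊗[k] A) :
    (φ.restrictScalars k).rTensor A (act M s z) =
      act M' s ((φ.restrictScalars k).rTensor A z) := by
  induction s using TensorProduct.induction_on with
  | zero => simp
  | tmul r a =>
    induction z using TensorProduct.induction_on with
    | zero => simp
    | tmul m a' => simp [act_tmul]
    | add x y hx hy => simp only [map_add, hx, hy]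
  | add x y hx hy => simp only [map_add, LinearMap.add_apply, hx, hy]

theorem act_alg {B : Type u} [CommRing B] [Algebra k B] [Algebra L B] [IsScalarTower k L B]
    (s : L ⊗[k] A) (z : B ⊗[k] A) :
    act B s z = Algebra.TensorProduct.map (IsScalarTower.toAlgHom k L B) (AlgHom.id k A) s * z := by
  induction s using TensorProduct.induction_on with
  | zero => simp
  | tmul r a =>
    induction z using TensorProduct.induction_on with
    | zero => simp
    | tmul m a' => simp [act_tmul, Algebra.smul_def]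
    | add x y hx hy => simp only [map_add, mul_add, hx, hy]
  | add x y hx hy => simp only [map_add, LinearMap.add_apply, add_mul, hx, hy]

theorem act_self (s : L ⊗[k] A) (z : L ⊗[k] A) : act L s z = s * z := by
  rw [act_alg]
  congr 1
  induction s using TensorProduct.induction_on with
  | zero => simp
  | tmul r a => simp
  | add x y hx hy => simp only [map_add, hx, hy]

end act

/-- Over a Noetherian local `k`-algebra, an element whose reduction is nonzero kills nothing. -/
theorem eq_zero_of_mul_eq_zero [IsAlgClosed k] [IsDomain A] {L : Type u} [CommRing L] [Algebra k L]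
    [IsLocalRing L] [IsNoetherianRing L] (s z : L ⊗[k] A)
    (hs : ∃ i, IsUnit (coef b i s)) (hz : s * z = 0) : z = 0 := by
  set 𝔪 := IsLocalRing.maximalIdeal L
  set κ := L ⧸ 𝔪
  letI : Field κ := Ideal.Quotient.field 𝔪
  haveI : IsDomain (κ ⊗[k] A) := SweepSix.isDomain_tensor κ A
  apply eq_zero_of_coef b
  suffices h : ∀ n, ∀ i, coef b i z ∈ 𝔪 ^ n by
    intro i
    have : coef b i z ∈ ⨅ n : ℕ, 𝔪 ^ n := by simpa [Submodule.mem_iInf] using fun n => h n i
    rwa [Ideal.iInf_pow_eq_bot_of_isLocalRing 𝔪 (IsLocalRing.maximalIdeal.isMaximal L).ne_top,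
      Ideal.mem_bot] at this
  intro n
  induction n with
  | zero => simp
  | succ n ih =>
    -- lift `z` to `𝔪 ^ n ⊗ A`
    let M : Submodule L L := 𝔪 ^ n
    let j : M →ₗ[k] L := M.subtype.restrictScalars k
    obtain ⟨z', hz'⟩ : ∃ z' : M ⊗[k] A, j.rTensor A z' = z := by
      refine ⟨(TensorProduct.equivFinsuppOfBasisRight b).symm (Finsupp.onFinset
        (TensorProduct.equivFinsuppOfBasisRight b z).support (fun i => (⟨coef b i z, ih i⟩ : M))
        (fun i hi => ?_)), ?_⟩
      · rw [Finsupp.mem_support_iff]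
        exact fun h => hi (Subtype.ext h)
      · rw [← sub_eq_zero]
        apply eq_zero_of_coef b
        intro i
        rw [map_sub, coef_map, sub_eq_zero, coef_symm]
        rfl
    have hT : act M s z' = 0 := by
      apply rTensor_inj (A := A) j Subtype.val_injective
      rw [map_zero, act_nat (L := L) M.subtype s z']
      exact (congrArg (act L s) hz').trans ((act_self s z).trans hz)
    intro i
    let c : M := coef b i z'
    have hc : (c : L) = coef b i z := by
      rw [← hz', coef_map]; rfl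
    rw [← hc]
    by_contra hmem
    let N : Submodule L M := 𝔪 • ⊤
    have hcN : c ∉ N := fun h => hmem (by
      have h' := Submodule.mem_map_of_mem (f := M.subtype) h
      rw [Submodule.map_smul'', Submodule.map_top, Submodule.range_subtype, smul_eq_mul] at h'
      exact (pow_succ' 𝔪 n).symm ▸ h')
    let V := M ⧸ N
    letI : Module κ V :=
      Module.IsTorsionBySet.module (Module.isTorsionBySet_quotient_ideal_smul M 𝔪)
    have hv : (Submodule.Quotient.mk c : V) ≠ 0 := by
      simpa [Submodule.Quotient.mk_eq_zero] using hcN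
    obtain ⟨ℓ, hℓ⟩ : ∃ ℓ : Module.Dual κ V, ℓ (Submodule.Quotient.mk c) ≠ 0 := by
      by_contra! hall
      exact hv ((Module.forall_dual_apply_eq_zero_iff κ _).1 hall)
    let ψ : M →ₗ[L] κ := (ℓ.restrictScalars L) ∘ₗ N.mkQ
    have h1 := act_nat ψ s z'
    rw [hT, map_zero, act_alg] at h1
    rcases mul_eq_zero.1 h1.symm with h2 | h2
    · obtain ⟨i₀, hi₀⟩ := hs
      have h3 := congrArg (coef b i₀) h2
      rw [map_zero] at h3
      have h4 : coef b i₀ ((IsScalarTower.toAlgHom k L κ).toLinearMap.rTensor A s) = 0 := h3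
      rw [coef_map] at h4
      exact (IsLocalRing.mem_maximalIdeal _).1 (Ideal.Quotient.eq_zero_iff_mem.1 h4) hi₀
    · apply hℓ
      have := congrArg (coef b i) h2
      rw [coef_map, map_zero] at this
      exact this

theorem exists_notMem_coef {R : Type u} [CommRing R] [Algebra k R] (q : Ideal R)
    (P : Ideal (R ⊗[k] A)) (hle : q.map (Algebra.TensorProduct.includeLeftRingHom) ≤ P)
    {s : R ⊗[k] A} (hs : s ∉ P) : ∃ i, coef b i s ∉ q := by
  by_contra! h
  apply hs
  classical
  rw [← (TensorProduct.equivFinsuppOfBasisRight b).symm_apply_apply s,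
    ← Finsupp.sum_single (TensorProduct.equivFinsuppOfBasisRight b s), map_finsuppSum]
  refine Ideal.sum_mem _ fun i _ => ?_
  have : (TensorProduct.equivFinsuppOfBasisRight b).symm
      (Finsupp.single i (coef b i s)) = (coef b i s) ⊗ₜ[k] b i := by
    rw [LinearEquiv.symm_apply_eq]
    ext i'
    simp [Finsupp.single_apply]
  show (TensorProduct.equivFinsuppOfBasisRight b).symm (Finsupp.single i (coef b i s)) ∈ P
  rw [this, show (coef b i s) ⊗ₜ[k] b i = (coef b i s ⊗ₜ[k] (1 : A)) * (1 ⊗ₜ[k] b i) by simp]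
  exact Ideal.mul_mem_right _ _ (hle (Ideal.mem_map_of_mem _ (h i)))

/-- `f` is killed near every prime of the base. -/
theorem exists_notMem_annihilator [IsAlgClosed k] [IsDomain A] {R : Type u} [CommRing R]
    [Algebra k R] (q : Ideal R) [q.IsPrime] {s f : R ⊗[k] A} (hs : ∃ i, coef b i s ∉ q)
    (hsf : s * f = 0) : ∃ t ∉ q, ∀ i, t * coef b i f = 0 := by
  classical
  let R₀ := Algebra.adjoin k (((finite_coef b s).toFinset ∪ (finite_coef b f).toFinset : Finset R) : Set R)
  haveI : Algebra.FiniteType k R₀ := R₀.fg_iff_finiteType.mp (Subalgebra.fg_adjoin_finset _)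
  haveI : IsNoetherianRing R₀ := Algebra.FiniteType.isNoetherianRing k R₀
  let θ : R₀ ⊗[k] A →ₐ[k] R ⊗[k] A := Algebra.TensorProduct.map R₀.val (AlgHom.id k A)
  have hθ : ∀ y, θ y = R₀.val.toLinearMap.rTensor A y := fun y => rfl
  have hlift : ∀ y : R ⊗[k] A, (∀ i, coef b i y ∈ R₀) → ∃ y₀, θ y₀ = y := fun y hy => by
    refine ⟨(TensorProduct.equivFinsuppOfBasisRight b).symm (Finsupp.onFinset
      (TensorProduct.equivFinsuppOfBasisRight b y).support (fun i => (⟨coef b i y, hy i⟩ : R₀))
      (fun i hi => ?_)), ?_⟩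
    · rw [Finsupp.mem_support_iff]
      exact fun h => hi (Subtype.ext h)
    · rw [← sub_eq_zero]
      apply eq_zero_of_coef b
      intro i
      rw [hθ, map_sub, coef_map, sub_eq_zero, coef_symm]
      rfl
  obtain ⟨s₀, hs₀⟩ := hlift s fun i => Algebra.subset_adjoin (by simp)
  obtain ⟨f₀, hf₀⟩ := hlift f fun i => Algebra.subset_adjoin (by simp)
  have h0 : s₀ * f₀ = 0 := rTensor_inj (A := A) R₀.val.toLinearMap Subtype.val_injective (by
    rw [map_zero, ← hθ, map_mul, hs₀, hf₀, hsf])
  let q₀ : Ideal R₀ := q.comap R₀.val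
  haveI : q₀.IsPrime := Ideal.comap_isPrime _ _
  let L := Localization.AtPrime q₀
  haveI : IsNoetherianRing L := IsLocalization.isNoetherianRing q₀.primeCompl L inferInstance
  let χ : R₀ ⊗[k] A →ₐ[k] L ⊗[k] A :=
    Algebra.TensorProduct.map (IsScalarTower.toAlgHom k R₀ L) (AlgHom.id k A)
  have hχ : ∀ y i, coef b i (χ y) = algebraMap R₀ L (coef b i y) := fun y i => by
    show coef b i ((IsScalarTower.toAlgHom k R₀ L).toLinearMap.rTensor A y) = _
    rw [coef_map]; rfl
  have hcoef : ∀ y i, coef b i (θ y) = ((coef b i y : R₀) : R) := fun y i => by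
    rw [hθ, coef_map]; rfl
  have hL : χ f₀ = 0 := by
    refine eq_zero_of_mul_eq_zero b (χ s₀) _ ?_ (by rw [← map_mul, h0, map_zero])
    obtain ⟨i, hi⟩ := hs
    refine ⟨i, ?_⟩
    rw [hχ]
    refine IsLocalization.map_units L (⟨coef b i s₀, fun h => hi ?_⟩ : q₀.primeCompl)
    rw [← hs₀, hcoef]
    exact h
  have hkill : ∀ i, ∃ t : q₀.primeCompl, (t : R₀) * coef b i f₀ = 0 := fun i => by
    have := congrArg (coef b i) hL
    rw [hχ, map_zero] at this
    exact (IsLocalization.map_eq_zero_iff q₀.primeCompl L _).1 this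
  choose t ht using hkill
  let supp := (TensorProduct.equivFinsuppOfBasisRight b f₀).support
  refine ⟨∏ i ∈ supp, ((t i : R₀) : R), fun h => ?_, fun i => ?_⟩
  · obtain ⟨i, -, hi⟩ := Ideal.IsPrime.prod_mem_iff.1 h
    exact (t i).2 hi
  · rw [← hf₀, hcoef]
    by_cases hi : i ∈ supp
    · rw [← Finset.mul_prod_erase supp _ hi, mul_right_comm, ← Subalgebra.coe_mul, ht i]
      exact zero_mul _
    · have : coef b i f₀ = 0 := Finsupp.notMem_support_iff.1 hi
      rw [this]; exact mul_zero _

theorem eq_zero_of_vanish [IsAlgClosed k] [IsDomain A] {R : Type u} [CommRing R]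
    [Algebra k R]
    (U : TopologicalSpace.Opens (PrimeSpectrum (R ⊗[k] A)))
    (hsurj : ∀ q : PrimeSpectrum R, ∃ P ∈ U,
      PrimeSpectrum.comap (Algebra.TensorProduct.includeLeftRingHom : R →+* R ⊗[k] A) P = q)
    (f : R ⊗[k] A)
    (hf : ∀ g : R ⊗[k] A, (PrimeSpectrum.basicOpen g : Set (PrimeSpectrum (R ⊗[k] A))) ⊆ U →
      algebraMap (R ⊗[k] A) (Localization.Away g) f = 0) : f = 0 := by
  classical
  let b := Module.Free.chooseBasis k A
  apply eq_zero_of_coef b
  intro i
  let I : Ideal R :=
    { carrier := {t | t * coef b i f = 0}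
      add_mem' := fun {x y} hx hy => by simp only [Set.mem_setOf_eq, add_mul] at *; rw [hx, hy, add_zero]
      zero_mem' := zero_mul _
      smul_mem' := fun c x hx => by simp only [Set.mem_setOf_eq, smul_eq_mul, mul_assoc] at *; rw [hx, mul_zero] }
  suffices hI : I = ⊤ by
    have h1 : (1 : R) * coef b i f = 0 := (Ideal.eq_top_iff_one I).1 hI
    rwa [one_mul] at h1
  by_contra hI
  obtain ⟨q, hq, hIq⟩ := Ideal.exists_le_maximal I hI
  haveI := hq.isPrime
  obtain ⟨P, hPU, hPq⟩ := hsurj ⟨q, hq.isPrime⟩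
  obtain ⟨_, ⟨g, rfl⟩, hgP, hgU⟩ :=
    PrimeSpectrum.isTopologicalBasis_basic_opens.exists_subset_of_mem_open hPU U.2
  have hg : g ∉ P.asIdeal := hgP
  obtain ⟨⟨_, N, rfl⟩, hN⟩ :=
    (IsLocalization.map_eq_zero_iff (Submonoid.powers g) (Localization.Away g) f).1 (hf g hgU)
  have hs : g ^ N ∉ P.asIdeal := fun h => hg (P.isPrime.mem_of_pow_mem N h)
  have hle : q.map (Algebra.TensorProduct.includeLeftRingHom : R →+* R ⊗[k] A) ≤ P.asIdeal :=
    Ideal.map_le_iff_le_comap.2 (congrArg PrimeSpectrum.asIdeal hPq).ge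
  obtain ⟨t, htq, ht⟩ := exists_notMem_annihilator b q (exists_notMem_coef b q _ hle hs) hN
  exact htq (hIq (ht i))

end DenseFibreLib
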